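import Mathlib
import Cfsg.Agent.Lib.helper15.St2
import Cfsg.Agent.Lib.helper7.CeB

/-!
# Family T3 (designer helper17), for **S2110** (10u: the Schur multiplier of `³D₄(q)` is trivial, ALL `q`) — definitions

## The cubic datum
`Cub F K`: a field `K` with a subfield `F` (`[Algebra F K]`), an `F`-automorphism `θ` of order `3` of `K`, the trace `tr x = x + θ x + θ² x` and the norm `nm x = x θx θ²x` with values in `F`.
`sharp x = θ x * θ² x` (so `x * sharp x = nm x`), `cross x y = θ x * θ² y + θ² x * θ y` (the linearisation of `sharp`).  In the application `K` has `q³` elements, `θ x = x ^ q`, `F` is the subfield with `q` elements.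
`Cub.Good`: the facts on finite fields that the family uses (proved once, for the concrete datum, in project T3M).

## The Steinberg system of type `³D₄` (twisted root system of type `G₂`)
The 12 roots are numbered by `ZMod 12`, root `i` at the angle `30° · i`; the even roots `2k` are SHORT, with root elements `xs k t`, `t : K`; the odd roots `2k + 1` are LONG, with root elements `xl k c`, `c : F` (`k : ZMod 6`).
In `³D₄(q)` (helper23's `TD4V` notation): `xs 0 t = Xa q t` (root `a`), `xl 0 c = X 22 c` (`3a+b`), `xs 1` = root `2a+b`, `xl 1 c = X 23 c` (`3a+2b`), `xs 2` = root `a+b`, `xl 2` = root `b`, `xs 3` = root `-a`, …, and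
`xs (k+1) t = ρ * xs k t * ρ⁻¹`, `xl (k+1) c = ρ * xl k c * ρ⁻¹` with `ρ = n_a(1) n_b(1)` (the Coxeter element; `ρ ^ 6` acts trivially).  Explicitly (`θ t = t ^ q`):
`xs 0 t = X 18 t * X 13 (θ t) * X 12 (θ² t)`, `xs 1 t = X 20 (-θ t) * X 21 (-θ² t) * X 17 t`, `xs 2 t = X 19 (-t) * X 16 (θ t) * X 15 (θ² t)`, `xs 3 t = X 5 (-t) * X 10 (-θ t) * X 11 (-θ² t)`,
`xs 4 t = X 3 (θ t) * X 2 (θ² t) * X 6 (-t)`, `xs 5 t = X 4 t * X 7 (-θ t) * X 8 (-θ² t)`; `xl 0 c = X 22 c`, `xl 1 c = X 23 c`, `xl 2 c = X 14 (-c)`, `xl 3 c = X 1 (-c)`, `xl 4 c = X 0 (-c)`, `xl 5 c = X 9 c`.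
With this normalisation ALL relations are uniform in `k` and have no `θ`-twists.  They were found and checked on the `28 × 28` matrices of the Prelude (`Def_ChevD4`) for `q = 2, 3, 4, 5` (Python model `scratch17t/` of helper17: `check_all.py`).
`cm a b = a * b * a⁻¹ * b⁻¹` (helper7 `CeA`), `cj g a = g * a * g⁻¹` (helper15 `St2`).

* pairs of roots at an angle `< 180°` that COMMUTE: `(S_k, L_k)`, `(S_k, L_{k+1})`, `(L_k, S_{k+1})`, `(L_k, L_{k+1})`, `(L_k, S_{k+2})`;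
* `ss1`: `cm (S_k s) (S_{k+1} t) = L_k (-tr (s t))`;
* `ss2`: `cm (S_k s) (S_{k+2} t) = L_k (-tr (s^# t)) * S_{k+1} (s × t) * L_{k+1} (tr (s t^#))`;
* `sl`: `cm (S_k s) (L_{k+2} c) = L_k (c N(s)) * S_{k+1} (-(c s^#)) * L_{k+1} (c² N(s)) * S_{k+2} (-(c s))`;
* `ll`: `cm (L_k c) (L_{k+2} d) = L_{k+1} (c d)`;
* `ls`: `cm (L_k c) (S_{k+3} t) = S_{k+1} (-(c t)) * L_{k+1} (-(c² N(t))) * S_{k+2} (c t^#) * L_{k+2} (c N(t))`;
* the Weyl elements `ws k t = S_k t * S_{k+3} t⁻¹ * S_k t` (reflection `i ↦ 4k + 6 - i` of `ZMod 12`) and `wl k c = L_k c * L_{k+3} c⁻¹ * L_k c` (reflection `i ↦ 4k + 8 - i`) act `K`-linearly on all root groups: the 24 fields `ws_s*`, `ws_l*`, `wl_s*`, `wl_l*`.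
-/

set_option autoImplicit false

namespace Cfsg.Agent.Lib.helper17.T3

open Cfsg.Agent.Lib.helper15.St2 Cfsg.Agent.Lib.helper7.Ce

/-- A cubic datum: `θ` of order `3` on `K`, fixing `F`, with trace and norm to `F`. -/
structure Cub (F K : Type*) [Field F] [Field K] [Algebra F K] where
  θ : K →+* K
  θ3 : ∀ x, θ (θ (θ x)) = x
  θF : ∀ c : F, θ (algebraMap F K c) = algebraMap F K c
  tr : K → F
  nm : K → F
  htr : ∀ x, algebraMap F K (tr x) = x + θ x + θ (θ x)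
  hnm : ∀ x, algebraMap F K (nm x) = x * θ x * θ (θ x)

namespace Cub

variable {F K : Type*} [Field F] [Field K] [Algebra F K] (C : Cub F K)

/-- the adjoint `x^# = θ x * θ² x` -/
def sharp (x : K) : K := C.θ x * C.θ (C.θ x)

/-- the linearisation of the adjoint: `x × y = θ x * θ² y + θ² x * θ y` -/
def cross (x y : K) : K := C.θ x * C.θ (C.θ y) + C.θ (C.θ x) * C.θ y

/-- The facts on the (finite) fields used by the family. -/
structure Good : Prop where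
  /-- the trace is onto -/
  tr_surj : Function.Surjective C.tr
  /-- the norm is onto the nonzero elements -/
  nm_surj : ∀ c : F, c ≠ 0 → ∃ t : K, C.nm t = c
  /-- Hilbert 90 -/
  h90 : ∀ v : K, C.nm v = 1 → ∃ a : K, a ≠ 0 ∧ v * a = C.θ a
  /-- a norm one element other than `1` -/
  nm_one : ∃ v : K, v ≠ 1 ∧ C.nm v = 1
  /-- the fixed field of `θ` is `F` -/
  fix : ∀ x : K, C.θ x = x → ∃ c : F, algebraMap F K c = x

end Cub

variable {F K : Type*} [Field F] [Field K] [Algebra F K]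

/-- A Steinberg system of type `³D₄` in the group `G`. -/
structure SysT (C : Cub F K) (G : Type*) [Group G] where
  xs : ZMod 6 → K → G
  xl : ZMod 6 → F → G
  adds : ∀ k s t, xs k s * xs k t = xs k (s + t)
  addl : ∀ k c d, xl k c * xl k d = xl k (c + d)
  c_sl0 : ∀ k s c, xs k s * xl k c = xl k c * xs k s
  c_sl1 : ∀ k s c, xs k s * xl (k + 1) c = xl (k + 1) c * xs k s
  c_ls1 : ∀ k c s, xl k c * xs (k + 1) s = xs (k + 1) s * xl k c
  c_ll1 : ∀ k c d, xl k c * xl (k + 1) d = xl (k + 1) d * xl k c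
  c_ls2 : ∀ k c s, xl k c * xs (k + 2) s = xs (k + 2) s * xl k c
  ss1 : ∀ k s t, cm (xs k s) (xs (k + 1) t) = xl k (-(C.tr (s * t)))
  ss2 : ∀ k s t, cm (xs k s) (xs (k + 2) t) =
    xl k (-(C.tr (C.sharp s * t))) * xs (k + 1) (C.cross s t) * xl (k + 1) (C.tr (s * C.sharp t))
  sl : ∀ k s c, cm (xs k s) (xl (k + 2) c) =
    xl k (c * C.nm s) * xs (k + 1) (-(c • C.sharp s)) * xl (k + 1) (c ^ 2 * C.nm s) * xs (k + 2) (-(c • s))
  ll : ∀ k c d, cm (xl k c) (xl (k + 2) d) = xl (k + 1) (c * d)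
  ls : ∀ k c t, cm (xl k c) (xs (k + 3) t) =
    xs (k + 1) (-(c • t)) * xl (k + 1) (-(c ^ 2 * C.nm t)) * xs (k + 2) (c • C.sharp t) * xl (k + 2) (c * C.nm t)
  ws_s0 : ∀ k t u, t ≠ 0 → cj (xs k t * xs (k + 3) t⁻¹ * xs k t) (xs k u) = xs (k + 3) (t⁻¹ ^ 2 * u)
  ws_s1 : ∀ k t u, t ≠ 0 → cj (xs k t * xs (k + 3) t⁻¹ * xs k t) (xs (k + 1) u) = xs (k + 2) ((C.nm t)⁻¹ • (t ^ 2 * u))
  ws_s2 : ∀ k t u, t ≠ 0 → cj (xs k t * xs (k + 3) t⁻¹ * xs k t) (xs (k + 2) u) = xs (k + 1) (-(C.nm t • (t⁻¹ ^ 2 * u)))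
  ws_s3 : ∀ k t u, t ≠ 0 → cj (xs k t * xs (k + 3) t⁻¹ * xs k t) (xs (k + 3) u) = xs k (t ^ 2 * u)
  ws_s4 : ∀ k t u, t ≠ 0 → cj (xs k t * xs (k + 3) t⁻¹ * xs k t) (xs (k + 4) u) = xs (k + 5) (C.nm t • (t⁻¹ ^ 2 * u))
  ws_s5 : ∀ k t u, t ≠ 0 → cj (xs k t * xs (k + 3) t⁻¹ * xs k t) (xs (k + 5) u) = xs (k + 4) (-((C.nm t)⁻¹ • (t ^ 2 * u)))
  ws_l0 : ∀ k t c, t ≠ 0 → cj (xs k t * xs (k + 3) t⁻¹ * xs k t) (xl k c) = xl (k + 2) (-((C.nm t)⁻¹ * c))
  ws_l1 : ∀ k t c, t ≠ 0 → cj (xs k t * xs (k + 3) t⁻¹ * xs k t) (xl (k + 1) c) = xl (k + 1) c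
  ws_l2 : ∀ k t c, t ≠ 0 → cj (xs k t * xs (k + 3) t⁻¹ * xs k t) (xl (k + 2) c) = xl k (C.nm t * c)
  ws_l3 : ∀ k t c, t ≠ 0 → cj (xs k t * xs (k + 3) t⁻¹ * xs k t) (xl (k + 3) c) = xl (k + 5) (-(C.nm t * c))
  ws_l4 : ∀ k t c, t ≠ 0 → cj (xs k t * xs (k + 3) t⁻¹ * xs k t) (xl (k + 4) c) = xl (k + 4) c
  ws_l5 : ∀ k t c, t ≠ 0 → cj (xs k t * xs (k + 3) t⁻¹ * xs k t) (xl (k + 5) c) = xl (k + 3) ((C.nm t)⁻¹ * c)
  wl_s0 : ∀ k c u, c ≠ 0 → cj (xl k c * xl (k + 3) c⁻¹ * xl k c) (xs k u) = xs (k + 4) (-(c⁻¹ • u))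
  wl_s1 : ∀ k c u, c ≠ 0 → cj (xl k c * xl (k + 3) c⁻¹ * xl k c) (xs (k + 1) u) = xs (k + 3) (c⁻¹ • u)
  wl_s2 : ∀ k c u, c ≠ 0 → cj (xl k c * xl (k + 3) c⁻¹ * xl k c) (xs (k + 2) u) = xs (k + 2) u
  wl_s3 : ∀ k c u, c ≠ 0 → cj (xl k c * xl (k + 3) c⁻¹ * xl k c) (xs (k + 3) u) = xs (k + 1) (-(c • u))
  wl_s4 : ∀ k c u, c ≠ 0 → cj (xl k c * xl (k + 3) c⁻¹ * xl k c) (xs (k + 4) u) = xs k (c • u)
  wl_s5 : ∀ k c u, c ≠ 0 → cj (xl k c * xl (k + 3) c⁻¹ * xl k c) (xs (k + 5) u) = xs (k + 5) u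
  wl_l0 : ∀ k c d, c ≠ 0 → cj (xl k c * xl (k + 3) c⁻¹ * xl k c) (xl k d) = xl (k + 3) (c⁻¹ ^ 2 * d)
  wl_l1 : ∀ k c d, c ≠ 0 → cj (xl k c * xl (k + 3) c⁻¹ * xl k c) (xl (k + 1) d) = xl (k + 2) (-(c⁻¹ * d))
  wl_l2 : ∀ k c d, c ≠ 0 → cj (xl k c * xl (k + 3) c⁻¹ * xl k c) (xl (k + 2) d) = xl (k + 1) (c * d)
  wl_l3 : ∀ k c d, c ≠ 0 → cj (xl k c * xl (k + 3) c⁻¹ * xl k c) (xl (k + 3) d) = xl k (c ^ 2 * d)
  wl_l4 : ∀ k c d, c ≠ 0 → cj (xl k c * xl (k + 3) c⁻¹ * xl k c) (xl (k + 4) d) = xl (k + 5) (-(c * d))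
  wl_l5 : ∀ k c d, c ≠ 0 → cj (xl k c * xl (k + 3) c⁻¹ * xl k c) (xl (k + 5) d) = xl (k + 4) (c⁻¹ * d)

namespace SysT

variable {C : Cub F K} {G : Type*} [Group G] (S : SysT C G)

/-- the Weyl element of the short root `2k` -/
def ws (k : ZMod 6) (t : K) : G := S.xs k t * S.xs (k + 3) t⁻¹ * S.xs k t

/-- the Weyl element of the long root `2k + 1` -/
def wl (k : ZMod 6) (c : F) : G := S.xl k c * S.xl (k + 3) c⁻¹ * S.xl k c

/-- the torus element of the short root `2k` -/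
def hs (k : ZMod 6) (t : K) : G := S.ws k t * (S.ws k 1)⁻¹

/-- the torus element of the long root `2k + 1` -/
def hl (k : ZMod 6) (c : F) : G := S.wl k c * (S.wl k 1)⁻¹

/-- the subgroup generated by all root elements -/
def gen : Subgroup G := Subgroup.closure ({g | ∃ k t, g = S.xs k t} ∪ {g | ∃ k c, g = S.xl k c})

/-- the rank one system of the short root `2k`: `X true t = xs k t`, `X false t = xs (k + 3) (-t)` -/
def sts (k : ZMod 6) : St K G where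
  X b t := if b then S.xs k t else S.xs (k + 3) (-t)
  add b t u := by
    cases b
    · simp only [Bool.false_eq_true, if_false]; rw [S.adds, neg_add]
    · simp only [if_true]; exact S.adds k t u
  rel b t u ht := by
    cases b
    · simp only [Bool.false_eq_true, if_false, Bool.not_false, if_true]
      have h := S.ws_s0 (k + 3) (-t) (-u) (neg_ne_zero.2 ht)
      have e : k + 3 + 3 = k := by
        have : (3 : ZMod 6) + 3 = 0 := by decide
        rw [add_assoc, this, add_zero]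
      rw [e, inv_neg] at h
      rw [h]
      congr 1
      ring
    · simp only [if_true, Bool.not_true, Bool.false_eq_true, if_false]
      have h := S.ws_s0 k t u ht
      rw [neg_neg, h, neg_neg]

/-- the rank one system of the long root `2k + 1` -/
def stl (k : ZMod 6) : St F G where
  X b c := if b then S.xl k c else S.xl (k + 3) (-c)
  add b t u := by
    cases b
    · simp only [Bool.false_eq_true, if_false]; rw [S.addl, neg_add]
    · simp only [if_true]; exact S.addl k t u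
  rel b t u ht := by
    cases b
    · simp only [Bool.false_eq_true, if_false, Bool.not_false, if_true]
      have h := S.wl_l0 (k + 3) (-t) (-u) (neg_ne_zero.2 ht)
      have e : k + 3 + 3 = k := by
        have : (3 : ZMod 6) + 3 = 0 := by decide
        rw [add_assoc, this, add_zero]
      rw [e, inv_neg] at h
      rw [h]
      congr 1
      ring
    · simp only [if_true, Bool.not_true, Bool.false_eq_true, if_false]
      have h := S.wl_l0 k t u ht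
      rw [neg_neg, h, neg_neg]

end SysT

end Cfsg.Agent.Lib.helper17.T3
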