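import Mathlib
import Cfsg.Agent.Lib.helper17.T3.Defs

/-!
# Family T3 (S2110), project **T3C** (designer helper17): central extensions of a group with a Steinberg system of type `³D₄` — definitions

`σ : Γ →* G` is a central extension (`Cfsg.Agent.Lib.helper7.Ce.IsCE`) of a group `G` carrying `S : SysT C G` (`T3/Defs.lean`).  Goal of the project (`exists_lift_sysT`):
`Γ` carries a system `Q : SysT C Γ` with `σ (Q.xs k t) = S.xs k t`, `σ (Q.xl k c) = S.xl k c` (for `K`, `Γ` finite, `C.Good`, `|K| = |F|³`).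
`CL σ x y` (helper7 `CeA`): any two lifts of `x` and `y` commute; `lf h g` (helper7 `CeB`): a chosen lift of `g`; `cm a b = a b a⁻¹ b⁻¹`, `cj g a = g a g⁻¹`.

* `Cub.chs i u`, `Cub.chl i u`: the characters of the torus element `hs j u` on the root groups `S_{j+i}`, `L_{j+i}`;
  `Cub.dhs i c`, `Cub.dhl i c`: those of `hl j c`.
* `CLT S σ`: all pairs of root elements that commute in `G` (same root, or one of the five commuting families) have commuting lifts.
* `ShortLift S σ`: lifts `X k t` of the short root elements, additive in `t` and EQUIVARIANT: if `e : Γ` and `σ e` maps the rank one pair `(S_k, S_{k+3})` to the pair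
  `(S_{k'}, S_{k'+3})` with the coefficients `a`, `a⁻¹`, then `cj e (X k t) = X k' (a * t)`.  (They come from the section over `SL₂(K)`: the multiplier of `SL₂(K)`, `|K| ≥ 8` a cube, is trivial.)
* `Zl L k s t = cm (X k s) (X (k+1) t)`: a lift of `xl k (-tr (s t))`.
* `LongLift S σ L`: lifts `Y k c` of the long root elements, additive, with `cm (X k s) (X (k+1) t) = Y k (-tr (s t))` (relation `ss1` upstairs).
* `R2`, `Z2`: the right hand side of `ss2` upstairs and the (central) defect of `ss2`; `R3`, `Z3`: the same for `sl`.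
-/

set_option autoImplicit false

namespace Cfsg.Agent.Lib.helper17.T3

open Cfsg.Agent.Lib.helper15.St2 Cfsg.Agent.Lib.helper7.Ce

variable {F K : Type*} [Field F] [Field K] [Algebra F K]

namespace Cub

variable (C : Cub F K)

/-- the character of the torus element `hs j u` on the short root group `S_{j+i}` -/
def chs (i : ZMod 6) (u : K) : K :=
  match i.val with
  | 0 => u ^ 2
  | 1 => algebraMap F K (C.nm u) * u⁻¹ ^ 2
  | 2 => u ^ 2 * (algebraMap F K (C.nm u))⁻¹
  | 3 => u⁻¹ ^ 2
  | 4 => u ^ 2 * (algebraMap F K (C.nm u))⁻¹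
  | _ => algebraMap F K (C.nm u) * u⁻¹ ^ 2

/-- the character of the torus element `hs j u` on the long root group `L_{j+i}` -/
def chl (i : ZMod 6) (u : K) : F :=
  match i.val with
  | 0 => C.nm u
  | 1 => 1
  | 2 => (C.nm u)⁻¹
  | 3 => (C.nm u)⁻¹
  | 4 => 1
  | _ => C.nm u

end Cub

/-- the character of the torus element `hl j c` on the short root group `S_{j+i}` -/
def dhs (i : ZMod 6) (c : F) : F :=
  match i.val with
  | 0 => c
  | 1 => c
  | 2 => 1
  | 3 => c⁻¹
  | 4 => c⁻¹
  | _ => 1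

/-- the character of the torus element `hl j c` on the long root group `L_{j+i}` -/
def dhl (i : ZMod 6) (c : F) : F :=
  match i.val with
  | 0 => c ^ 2
  | 1 => c
  | 2 => c⁻¹
  | 3 => c⁻¹ ^ 2
  | 4 => c⁻¹
  | _ => c

variable {C : Cub F K} {G Γ : Type*} [Group G] [Group Γ]

/-- all pairs of root elements that commute in `G` have commuting lifts -/
structure CLT (S : SysT C G) (σ : Γ →* G) : Prop where
  ss0 : ∀ k s t, CL σ (S.xs k s) (S.xs k t)
  ll0 : ∀ k c d, CL σ (S.xl k c) (S.xl k d)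
  sl0 : ∀ k s c, CL σ (S.xs k s) (S.xl k c)
  sl1 : ∀ k s c, CL σ (S.xs k s) (S.xl (k + 1) c)
  ls1 : ∀ k c s, CL σ (S.xl k c) (S.xs (k + 1) s)
  ll1 : ∀ k c d, CL σ (S.xl k c) (S.xl (k + 1) d)
  ls2 : ∀ k c s, CL σ (S.xl k c) (S.xs (k + 2) s)

/-- `g` maps the rank one pair `(S_k, S_{k+3})` to the pair `(S_{k'}, S_{k'+3})` with the coefficients `a`, `a⁻¹` -/
def SysT.MapsPair (S : SysT C G) (g : G) (k k' : ZMod 6) (a : K) : Prop :=
  (∀ t, cj g (S.xs k t) = S.xs k' (a * t)) ∧ ∀ t, cj g (S.xs (k + 3) t) = S.xs (k' + 3) (a⁻¹ * t)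

/-- additive, equivariant lifts of the short root elements -/
structure ShortLift (S : SysT C G) (σ : Γ →* G) where
  X : ZMod 6 → K → Γ
  map : ∀ k t, σ (X k t) = S.xs k t
  add : ∀ k s t, X k s * X k t = X k (s + t)
  eqv : ∀ (e : Γ) (k k' : ZMod 6) (a : K), a ≠ 0 → S.MapsPair (σ e) k k' a → ∀ t, cj e (X k t) = X k' (a * t)

/-- the commutator of the lifts of `xs k s` and `xs (k+1) t`: a lift of `xl k (-tr (s t))` -/
def Zl {S : SysT C G} {σ : Γ →* G} (L : ShortLift S σ) (k : ZMod 6) (s t : K) : Γ :=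
  cm (L.X k s) (L.X (k + 1) t)

/-- additive lifts of the long root elements, with the relation `ss1` upstairs -/
structure LongLift (S : SysT C G) (σ : Γ →* G) (L : ShortLift S σ) where
  Y : ZMod 6 → F → Γ
  map : ∀ k c, σ (Y k c) = S.xl k c
  add : ∀ k c d, Y k c * Y k d = Y k (c + d)
  ss1 : ∀ k s t, cm (L.X k s) (L.X (k + 1) t) = Y k (-(C.tr (s * t)))

section

variable {S : SysT C G} {σ : Γ →* G} (L : ShortLift S σ) (M : LongLift S σ L)

/-- the right hand side of `ss2` upstairs -/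
def R2 (k : ZMod 6) (s t : K) : Γ :=
  M.Y k (-(C.tr (C.sharp s * t))) * L.X (k + 1) (C.cross s t) * M.Y (k + 1) (C.tr (s * C.sharp t))

/-- the defect of `ss2` upstairs (central) -/
def Z2 (k : ZMod 6) (s t : K) : Γ := cm (L.X k s) (L.X (k + 2) t) * (R2 L M k s t)⁻¹

/-- the right hand side of `sl` upstairs -/
def R3 (k : ZMod 6) (s : K) (c : F) : Γ :=
  M.Y k (c * C.nm s) * L.X (k + 1) (-(c • C.sharp s)) * M.Y (k + 1) (c ^ 2 * C.nm s) * L.X (k + 2) (-(c • s))

/-- the defect of `sl` upstairs (central) -/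
def Z3 (k : ZMod 6) (s : K) (c : F) : Γ := cm (L.X k s) (M.Y (k + 2) c) * (R3 L M k s c)⁻¹

end

end Cfsg.Agent.Lib.helper17.T3
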