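import Mathlib
import Cfsg.Agent.Lib.helper17.T3.Defs

/-!
# Family T3 (S2110): the cubic datum of a finite field with `q³` elements (helper17; field block of project T3M)

For a finite field `K` with `q ^ 3` elements, `q` a prime power: `frobQ K q : K →+* K` is `x ↦ x ^ q`, `fixF K q : Subfield K` its fixed field, and
`cubQ hq hK : Cub ↥(fixF K q) K` the cubic datum (`θ x = x ^ q`, trace and norm); it is `Good`, and `|K| = |fixF K q| ^ 3`.
-/

set_option autoImplicit false

namespace Cfsg.Agent.Lib.helper17.T3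

open Polynomial

section Fld

variable (K : Type*) [Field K] (q : ℕ)

open Classical in
/-- the map `x ↦ x ^ q` as a ring homomorphism (when it is one) -/
noncomputable def frobQ : K →+* K := if h : ∃ f : K →+* K, ∀ x, f x = x ^ q then h.choose else RingHom.id K

/-- the fixed field of `x ↦ x ^ q` -/
noncomputable def fixF : Subfield K := (frobQ K q).eqLocusField (RingHom.id K)

variable {K q}

theorem exists_frobQ [Fintype K] (hq : IsPrimePow q) (hK : Fintype.card K = q ^ 3) : ∃ f : K →+* K, ∀ x, f x = x ^ q := by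
  obtain ⟨p, k, hp, hk, rfl⟩ := hq
  have hp' : p.Prime := Nat.prime_iff.2 hp
  obtain ⟨p', hchar, n, hpp, hcard⟩ := FiniteField.card' K
  have hdvd : p' ∣ p := by
    have h1 : p' ∣ (p ^ k) ^ 3 := by
      rw [← hK, hcard]
      exact dvd_pow_self p' n.ne_zero
    exact hpp.dvd_of_dvd_pow (hpp.dvd_of_dvd_pow h1)
  have heq : p' = p := (Nat.prime_dvd_prime_iff_eq hpp hp').1 hdvd
  subst heq
  haveI : Fact p'.Prime := ⟨hpp⟩
  haveI : ExpChar K p' := ExpChar.prime hpp
  exact ⟨iterateFrobenius K p' k, fun x => iterateFrobenius_def p' k x⟩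

theorem frobQ_apply [Fintype K] (hq : IsPrimePow q) (hK : Fintype.card K = q ^ 3) (x : K) : frobQ K q x = x ^ q := by
  unfold frobQ
  rw [dif_pos (exists_frobQ hq hK)]
  exact (exists_frobQ hq hK).choose_spec x

theorem mem_fixF [Fintype K] (hq : IsPrimePow q) (hK : Fintype.card K = q ^ 3) (x : K) : x ∈ fixF K q ↔ x ^ q = x := by
  unfold fixF
  rw [← frobQ_apply hq hK]
  rfl

theorem frobQ_three [Fintype K] (hq : IsPrimePow q) (hK : Fintype.card K = q ^ 3) (x : K) : frobQ K q (frobQ K q (frobQ K q x)) = x := by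
  rw [frobQ_apply hq hK, frobQ_apply hq hK, frobQ_apply hq hK, ← pow_mul, ← pow_mul]
  have : q * (q * q) = Fintype.card K := by rw [hK]; ring
  rw [this, FiniteField.pow_card]

/-- the cubic datum of `K` over the fixed field of `x ↦ x ^ q` -/
noncomputable def cubQ [Fintype K] (hq : IsPrimePow q) (hK : Fintype.card K = q ^ 3) : Cub ↥(fixF K q) K where
  θ := frobQ K q
  θ3 := frobQ_three hq hK
  θF c := c.2
  tr x := ⟨x + frobQ K q x + frobQ K q (frobQ K q x), by
    show frobQ K q _ = RingHom.id K _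
    rw [map_add, map_add, frobQ_three hq hK, RingHom.id_apply]; ring⟩
  nm x := ⟨x * frobQ K q x * frobQ K q (frobQ K q x), by
    show frobQ K q _ = RingHom.id K _
    rw [map_mul, map_mul, frobQ_three hq hK, RingHom.id_apply]; ring⟩
  htr _ := rfl
  hnm _ := rfl

theorem cubQ_θ [Fintype K] (hq : IsPrimePow q) (hK : Fintype.card K = q ^ 3) (x : K) : (cubQ hq hK).θ x = x ^ q := frobQ_apply hq hK x

theorem cubQ_tr [Fintype K] (hq : IsPrimePow q) (hK : Fintype.card K = q ^ 3) (x : K) : (((cubQ hq hK).tr x : fixF K q) : K) = x + x ^ q + x ^ q ^ 2 := by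
  show x + frobQ K q x + frobQ K q (frobQ K q x) = _
  rw [frobQ_apply hq hK, frobQ_apply hq hK, ← pow_mul, sq]

theorem cubQ_nm [Fintype K] (hq : IsPrimePow q) (hK : Fintype.card K = q ^ 3) (x : K) : (((cubQ hq hK).nm x : fixF K q) : K) = x * x ^ q * x ^ q ^ 2 := by
  show x * frobQ K q x * frobQ K q (frobQ K q x) = _
  rw [frobQ_apply hq hK, frobQ_apply hq hK, ← pow_mul, sq]

end Fld

end Cfsg.Agent.Lib.helper17.T3
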