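import Mathlib
import Cfsg.Agent.Lib.helper17.T3.Fld

/-!
# Family T3 (S2110): the cubic datum `cubQ` of a finite field with `q³` elements — the polynomial facts of `Cub.Good` (helper17)

`cubQ_tr_surj`, `cubQ_h90`, `cubQ_nm_one`, `cubQ_fix`: each from "a nonzero polynomial of degree `< |K|` has a non-root in `K`".
-/

set_option autoImplicit false

namespace Cfsg.Agent.Lib.helper17.T3

open Polynomial

section Fld

variable {K : Type*} [Field K] {q : ℕ}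

/-- a nonzero polynomial of degree `< |K|` has a non-root -/
theorem fld2_exists_eval_ne_zero [Fintype K] (P : K[X]) (hP : P ≠ 0) (hdeg : P.natDegree < Fintype.card K) : ∃ x : K, P.eval x ≠ 0 := by
  by_contra hcon
  push_neg at hcon
  exact hP (eq_zero_of_natDegree_lt_card_of_eval_eq_zero P (f := id) Function.injective_id hcon hdeg)

/-- the polynomial `a X + b X^q + c X^(q²)`, `c ≠ 0`, has a non-root -/
theorem fld2_exists_ne_zero [Fintype K] (hq : IsPrimePow q) (hK : Fintype.card K = q ^ 3) (a b c : K) (hc : c ≠ 0) :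
    ∃ x : K, a * x + b * x ^ q + c * x ^ q ^ 2 ≠ 0 := by
  have hq1 : 1 < q := hq.one_lt
  set P : K[X] := C a * X + C b * X ^ q + C c * X ^ q ^ 2 with hPdef
  have hqq : q < q ^ 2 := by nlinarith
  have hcoef : P.coeff (q ^ 2) = c := by
    rw [hPdef]
    simp only [coeff_add, coeff_C_mul, coeff_X_pow, coeff_X]
    have h1 : (1 : ℕ) ≠ q ^ 2 := by nlinarith
    have h2 : q ^ 2 ≠ q := by omega
    simp [h1, h2]
  have hP : P ≠ 0 := by
    intro h0
    rw [h0, coeff_zero] at hcoef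
    exact hc hcoef.symm
  have hdeg : P.natDegree < Fintype.card K := by
    have h1 : P.natDegree ≤ q ^ 2 := by
      rw [hPdef]
      refine (natDegree_add_le _ _).trans (max_le ((natDegree_add_le _ _).trans (max_le ?_ ?_)) ?_)
      · exact (natDegree_C_mul_le _ _).trans (natDegree_X_le.trans (by nlinarith))
      · exact (natDegree_C_mul_le _ _).trans ((natDegree_X_pow_le _).trans hqq.le)
      · exact (natDegree_C_mul_le _ _).trans (natDegree_X_pow_le _)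
    rw [hK]
    have : q ^ 2 < q ^ 3 := by nlinarith [pow_pos (by omega : 0 < q) 2]
    omega
  obtain ⟨x, hx⟩ := fld2_exists_eval_ne_zero P hP hdeg
  refine ⟨x, ?_⟩
  rw [hPdef] at hx
  simpa using hx

theorem cubQ_fix [Fintype K] (hq : IsPrimePow q) (hK : Fintype.card K = q ^ 3) (x : K) (hx : (cubQ hq hK).θ x = x) :
    ∃ c : fixF K q, algebraMap (fixF K q) K c = x :=
  ⟨⟨x, hx⟩, rfl⟩

theorem cubQ_tr_surj [Fintype K] (hq : IsPrimePow q) (hK : Fintype.card K = q ^ 3) : Function.Surjective (cubQ hq hK).tr := by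
  intro c
  obtain ⟨x₀, hx₀⟩ := fld2_exists_ne_zero hq hK 1 1 1 one_ne_zero
  rw [one_mul, one_mul, one_mul] at hx₀
  set τ : fixF K q := (cubQ hq hK).tr x₀ with hτ
  have hτK : (τ : K) = x₀ + x₀ ^ q + x₀ ^ q ^ 2 := cubQ_tr hq hK x₀
  have hτ0 : τ ≠ 0 := by
    intro h0
    apply hx₀
    rw [← hτK, h0]; rfl
  refine ⟨((c * τ⁻¹ : fixF K q) : K) * x₀, ?_⟩
  apply Subtype.ext
  rw [cubQ_tr]
  have hfix : ∀ d : fixF K q, (d : K) ^ q = d := fun d => (mem_fixF hq hK d).1 d.2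
  have e1 : (((c * τ⁻¹ : fixF K q) : K) * x₀) ^ q = ((c * τ⁻¹ : fixF K q) : K) * x₀ ^ q := by
    rw [mul_pow, hfix]
  have e2 : (((c * τ⁻¹ : fixF K q) : K) * x₀) ^ q ^ 2 = ((c * τ⁻¹ : fixF K q) : K) * x₀ ^ q ^ 2 := by
    rw [sq, pow_mul, pow_mul, e1, mul_pow, hfix]
  rw [e1, e2, ← mul_add, ← mul_add, ← hτK]
  have : ((c * τ⁻¹ : fixF K q) : K) * (τ : K) = ((c * τ⁻¹ * τ : fixF K q) : K) := rfl
  rw [this, inv_mul_cancel_right₀ hτ0]

theorem cubQ_h90 [Fintype K] (hq : IsPrimePow q) (hK : Fintype.card K = q ^ 3) (v : K) (hv : (cubQ hq hK).nm v = 1) :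
    ∃ a : K, a ≠ 0 ∧ v * a = (cubQ hq hK).θ a := by
  have hvK : v * v ^ q * v ^ q ^ 2 = 1 := by
    rw [← cubQ_nm hq hK, hv]; rfl
  have hv0 : v ≠ 0 := by
    intro h0; rw [h0, zero_mul, zero_mul] at hvK; exact zero_ne_one hvK
  have hvq : v ^ q ≠ 0 := pow_ne_zero _ hv0
  obtain ⟨x, hx⟩ := fld2_exists_ne_zero hq hK 1 v⁻¹ (v * v ^ q)⁻¹ (inv_ne_zero (mul_ne_zero hv0 hvq))
  refine ⟨1 * x + v⁻¹ * x ^ q + (v * v ^ q)⁻¹ * x ^ q ^ 2, hx, ?_⟩
  rw [cubQ_θ]
  have hx3 : x ^ q ^ 3 = x := by rw [← hK, FiniteField.pow_card]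
  have e : (1 * x + v⁻¹ * x ^ q + (v * v ^ q)⁻¹ * x ^ q ^ 2) ^ q
      = x ^ q + (v ^ q)⁻¹ * x ^ q ^ 2 + (v ^ q * v ^ q ^ 2)⁻¹ * x := by
    have hθ : ∀ y z : K, (y + z) ^ q = y ^ q + z ^ q := fun y z => by
      rw [← cubQ_θ hq hK, ← cubQ_θ hq hK, ← cubQ_θ hq hK, map_add]
    rw [hθ, hθ, one_mul, mul_pow, mul_pow, inv_pow, inv_pow, mul_pow]
    have p1 : (x ^ q) ^ q = x ^ q ^ 2 := by rw [← pow_mul, sq]
    have p2 : (x ^ q ^ 2) ^ q = x := by
      rw [← pow_mul]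
      have : q ^ 2 * q = q ^ 3 := by ring
      rw [this, hx3]
    have p3 : (v ^ q) ^ q = v ^ q ^ 2 := by rw [← pow_mul, sq]
    rw [p1, p2, p3]
  rw [e]
  have hvq2 : v ^ q ^ 2 ≠ 0 := pow_ne_zero _ hv0
  field_simp
  linear_combination x * hvK

theorem cubQ_nm_one [Fintype K] (hq : IsPrimePow q) (hK : Fintype.card K = q ^ 3) : ∃ v : K, v ≠ 1 ∧ (cubQ hq hK).nm v = 1 := by
  have hq1 : 1 < q := hq.one_lt
  -- an element not fixed by `x ↦ x ^ q`
  obtain ⟨a, ha⟩ : ∃ a : K, a ^ q ≠ a := by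
    obtain ⟨a, ha⟩ := fld2_exists_eval_ne_zero (X ^ q - X : K[X]) (FiniteField.X_pow_card_sub_X_ne_zero K hq1) (by
      rw [FiniteField.X_pow_card_sub_X_natDegree_eq K hq1, hK]
      nlinarith [pow_pos (by omega : 0 < q) 2])
    refine ⟨a, fun h => ha ?_⟩
    simp [h]
  have ha0 : a ≠ 0 := by
    intro h0; apply ha; rw [h0, zero_pow (by omega)]
  refine ⟨a ^ q / a, ?_, ?_⟩
  · intro h
    apply ha
    field_simp at h
    exact h
  · apply Subtype.ext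
    rw [cubQ_nm]
    have ha3 : a ^ q ^ 3 = a := by rw [← hK, FiniteField.pow_card]
    have p1 : (a ^ q / a) ^ q = a ^ q ^ 2 / a ^ q := by rw [div_pow, ← pow_mul, sq]
    have p2 : (a ^ q / a) ^ q ^ 2 = a / a ^ q ^ 2 := by
      rw [div_pow, ← pow_mul]
      have : q * q ^ 2 = q ^ 3 := by ring
      rw [this, ha3]
    rw [p1, p2]
    have h1 : a ^ q ≠ 0 := pow_ne_zero _ ha0
    have h2 : a ^ q ^ 2 ≠ 0 := pow_ne_zero _ ha0
    show _ = (1 : K)
    field_simp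

end Fld

end Cfsg.Agent.Lib.helper17.T3
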