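import Mathlib
import Cfsg.Agent.Lib.helper17.T3.Fld2

/-!
# Family T3 (S2110): the cubic datum `cubQ` — the facts from the cyclic group `Kˣ`, and `Cub.Good` (helper17)

`card_fixF`, `cubQ_nm_surj`, `cubQ_good`, `cubQ_card`.
-/

set_option autoImplicit false

namespace Cfsg.Agent.Lib.helper17.T3

open Polynomial

section Fld

variable {K : Type*} [Field K] {q : ℕ}

theorem fld3_factor (hq1 : 1 < q) : q ^ 3 - 1 = (q ^ 2 + q + 1) * (q - 1) := by
  obtain ⟨r, rfl⟩ : ∃ r, q = r + 1 := ⟨q - 1, by omega⟩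
  have : (r + 1) ^ 3 = ((r + 1) ^ 2 + (r + 1) + 1) * r + 1 := by ring
  rw [this]
  simp

/-- a generator `g` of `Kˣ`: `g ^ (q² + q + 1)` is a primitive `(q - 1)`-th root of unity -/
theorem fld3_exists_prim [Fintype K] (hq : IsPrimePow q) (hK : Fintype.card K = q ^ 3) :
    ∃ g : K, g ≠ 0 ∧ IsPrimitiveRoot (g ^ (q ^ 2 + q + 1)) (q - 1) := by
  classical
  have hq1 : 1 < q := hq.one_lt
  obtain ⟨g, hg⟩ := IsCyclic.exists_generator (α := Kˣ)
  have ho : orderOf g = q ^ 3 - 1 := by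
    rw [orderOf_eq_card_of_forall_mem_zpowers hg, Nat.card_eq_fintype_card, Fintype.card_units, hK]
  have hprim : IsPrimitiveRoot (g : K) (q ^ 3 - 1) := by
    rw [← ho, ← orderOf_units]
    exact IsPrimitiveRoot.orderOf _
  have hpos : 0 < q ^ 3 - 1 := by
    have : 1 < q ^ 3 := Nat.one_lt_pow (by norm_num) hq1
    omega
  exact ⟨g, g.ne_zero, hprim.pow hpos (fld3_factor hq1)⟩

theorem fld3_pow_q_iff (hq1 : 1 < q) (x : K) : x ^ q = x ↔ x = 0 ∨ x ^ (q - 1) = 1 := by
  have e : x ^ q = x ^ (q - 1) * x := by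
    rw [← pow_succ]
    congr 1
    omega
  rw [e]
  constructor
  · intro h
    by_cases hx : x = 0
    · exact Or.inl hx
    · right
      have : x ^ (q - 1) * x = 1 * x := by rw [h, one_mul]
      exact mul_right_cancel₀ hx this
  · rintro (h | h)
    · rw [h, mul_zero]
    · rw [h, one_mul]

theorem card_fixF [Fintype K] (hq : IsPrimePow q) (hK : Fintype.card K = q ^ 3) : Nat.card ↥(fixF K q) = q := by
  classical
  have hq1 : 1 < q := hq.one_lt
  obtain ⟨g, _, hprim⟩ := fld3_exists_prim hq hK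
  have hpos : 0 < q - 1 := by omega
  have hset : (Finset.univ.filter (fun x : K => x ∈ fixF K q)) = insert 0 (nthRootsFinset (q - 1) (1 : K)) := by
    ext x
    rw [Finset.mem_filter, Finset.mem_insert, mem_nthRootsFinset hpos, mem_fixF hq hK, fld3_pow_q_iff hq1]
    simp
  have h0 : (0 : K) ∉ nthRootsFinset (q - 1) (1 : K) := by
    rw [mem_nthRootsFinset hpos, zero_pow (by omega)]
    exact zero_ne_one
  rw [Nat.card_eq_fintype_card, Fintype.card_subtype, hset, Finset.card_insert_of_notMem h0, hprim.card_nthRootsFinset]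
  omega

theorem cubQ_nm_surj [Fintype K] (hq : IsPrimePow q) (hK : Fintype.card K = q ^ 3) (c : fixF K q) (hc : c ≠ 0) :
    ∃ t : K, (cubQ hq hK).nm t = c := by
  have hq1 : 1 < q := hq.one_lt
  obtain ⟨g, _, hprim⟩ := fld3_exists_prim hq hK
  haveI : NeZero (q - 1) := ⟨by omega⟩
  have hcK : (c : K) ≠ 0 := fun h => hc (Subtype.ext h)
  have hc1 : (c : K) ^ (q - 1) = 1 := by
    rcases (fld3_pow_q_iff hq1 (c : K)).1 ((mem_fixF hq hK c).1 c.2) with h | h
    · exact absurd h hcK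
    · exact h
  obtain ⟨i, _, hi⟩ := hprim.eq_pow_of_pow_eq_one hc1
  refine ⟨g ^ i, Subtype.ext ?_⟩
  rw [cubQ_nm, ← hi, ← pow_mul, ← pow_mul, ← pow_mul, ← pow_add, ← pow_add]
  congr 1
  ring

theorem cubQ_good [Fintype K] (hq : IsPrimePow q) (hK : Fintype.card K = q ^ 3) : (cubQ hq hK).Good where
  tr_surj := cubQ_tr_surj hq hK
  nm_surj := cubQ_nm_surj hq hK
  h90 := cubQ_h90 hq hK
  nm_one := cubQ_nm_one hq hK
  fix := cubQ_fix hq hK

theorem cubQ_card [Fintype K] (hq : IsPrimePow q) (hK : Fintype.card K = q ^ 3) : Nat.card K = Nat.card ↥(fixF K q) ^ 3 := by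
  rw [card_fixF hq hK, Nat.card_eq_fintype_card, hK]

end Fld

end Cfsg.Agent.Lib.helper17.T3
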