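import Mathlib
import Cfsg.Agent.Lib.helper17.T3.Fld3
import Cfsg.Agent.Lib.helper8.T3M.Defs

/-!
# Family T3 (S2110): helper8's datum `Dat K q` (project T3M) for the Frobenius `frobQ K q`, with `Cub.Good` and the cardinality (helper17)

`datQ hq hK : Dat K q` has `f = frobQ K q`; its cubic datum `(datQ hq hK).cub` IS `cubQ hq hK` (by `rfl`), so it is `Good` and `|K| = |Fx| ^ 3`.
-/

set_option autoImplicit false

namespace Cfsg.Agent.Lib.helper17.T3

open Cfsg.Agent.Lib.helper8.T3M

universe u

variable {K : Type u} [Field K] [Fintype K] {q : ℕ}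

/-- helper8's datum for the Frobenius `x ↦ x ^ q` of a field with `q ^ 3` elements -/
noncomputable def datQ (hq : IsPrimePow q) (hK : Fintype.card K = q ^ 3) : Dat K q where
  f := frobQ K q
  hf := frobQ_apply hq hK
  h3 := frobQ_three hq hK

theorem datQ_Fx (hq : IsPrimePow q) (hK : Fintype.card K = q ^ 3) : (datQ hq hK).Fx = fixF K q := rfl

theorem datQ_cub (hq : IsPrimePow q) (hK : Fintype.card K = q ^ 3) : (datQ hq hK).cub = cubQ hq hK := rfl

theorem datQ_good (hq : IsPrimePow q) (hK : Fintype.card K = q ^ 3) : (datQ hq hK).cub.Good := cubQ_good hq hK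

theorem datQ_card (hq : IsPrimePow q) (hK : Fintype.card K = q ^ 3) : Nat.card K = Nat.card ↥(datQ hq hK).Fx ^ 3 := cubQ_card hq hK

theorem datQ_card_Fx (hq : IsPrimePow q) (hK : Fintype.card K = q ^ 3) : Nat.card ↥(datQ hq hK).Fx = q := card_fixF hq hK

end Cfsg.Agent.Lib.helper17.T3
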