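import Mathlib
import Cfsg.Agent.Lib.helper17.T3.DefsC
import Cfsg.Agent.Lib.Helper24.T3C.Defs2

/-!
# Family T3 (S2110), project T3C: bridge between the two copies of `ShortLift` / `CLT`

helper24 (blocks R + T, `Cfsg/Agent/Lib/Helper24/T3C/Defs2.lean`) and helper17 (blocks L, E, D, W, M, `T3/DefsC.lean`) wrote the same two structures at the same time.
They are converted into each other here, so that `exists_shortLift` and `clt` of helper24's skeleton feed the rows of `T3/SkelC.lean.txt`.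
-/

set_option autoImplicit false

namespace Cfsg.Agent.Lib.helper17.T3

open Cfsg.Agent.Lib.helper15.St2 Cfsg.Agent.Lib.helper7.Ce

variable {F K : Type*} [Field F] [Field K] [Algebra F K] {C : Cub F K} {G Γ : Type*} [Group G] [Group Γ] {S : SysT C G} {σ : Γ →* G}

/-- helper24's short lifts are short lifts in the sense of `DefsC` -/
def ShortLift.ofH24 (L : Cfsg.Agent.Lib.Helper24.T3C.ShortLift S σ) : ShortLift S σ where
  X := L.xs
  map := L.map_xs
  add := L.adds
  eqv e k k' a ha hp t := L.equi e k k' a ha hp.1 hp.2 t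

/-- and conversely -/
def ShortLift.toH24 (L : ShortLift S σ) : Cfsg.Agent.Lib.Helper24.T3C.ShortLift S σ where
  xs := L.X
  map_xs := L.map
  adds := L.add
  equi e k k' a ha h1 h2 t := L.eqv e k k' a ha ⟨h1, h2⟩ t

theorem ShortLift.ofH24_X (L : Cfsg.Agent.Lib.Helper24.T3C.ShortLift S σ) (k : ZMod 6) (t : K) : (ShortLift.ofH24 L).X k t = L.xs k t := rfl

theorem ShortLift.toH24_xs (L : ShortLift S σ) (k : ZMod 6) (t : K) : (ShortLift.toH24 L).xs k t = L.X k t := rfl

theorem CLT.ofH24 (h : Cfsg.Agent.Lib.Helper24.T3C.CLT S σ) : CLT S σ :=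
  ⟨h.ss0, h.ll0, h.sl0, h.sl1, h.ls1, h.ll1, h.ls2⟩

theorem CLT.toH24 (h : CLT S σ) : Cfsg.Agent.Lib.Helper24.T3C.CLT S σ :=
  ⟨h.ss0, h.ll0, h.sl0, h.sl1, h.ls1, h.ll1, h.ls2⟩

end Cfsg.Agent.Lib.helper17.T3
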